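import Mathlib
import Cfsg.Agent.Lib.Helper29.BG.LemK
import Cfsg.Agent.Lib.Helper95.BG.S1428Defs

/-!
# S1428 project (helper95), package K0

`t ∉ β(M)`, `Y` a Sylow `t`-subgroup of `M'`: then `M = M_β · N_M(Y)`.
(Frattini argument for the normal subgroup `(M' ∩ M_β) Y`; the pure group theory is
`Helper29.BG.lemK_pure`, the input is the frozen statement S1414.)
-/

set_option autoImplicit false

namespace Cfsg.Agent.Lib.Helper46.BG

open Cfsg Subgroup
open Cfsg.Agent.Lib.Helper46 (IsSylowIn)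

universe u

/-- Package K0 of the S1428 project. -/
theorem lemK0 : Cfsg.Agent.Lib.Helper95.BG28.LemK0.{u} := by
  intro G _ _ hG hy M hM t ht htβ Y hY
  have : Fact t.Prime := ⟨ht⟩
  obtain ⟨hHallM, -, ⟨H0, hH0, hnil⟩, -, -⟩ := hy.h1414 M hM
  have hDM : ⁅M, M⁆ ≤ M := Cfsg.Agent.Lib.Helper29.BG.commutator_self_le M
  have hMD : M ≤ normalizer ((⁅M, M⁆ : Subgroup G) : Set G) :=
    Cfsg.Agent.Lib.Helper29.BG.le_normalizer_commutator_self M
  have hMMb : M ≤ normalizer ((piCoreOf (beta M) M : Subgroup G) : Set G) :=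
    Cfsg.Agent.Lib.Helper27.BG.le_normalizer_piCoreOf (beta M) M
  have hMB : M ≤ normalizer ((⁅M, M⁆ ⊓ piCoreOf (beta M) M : Subgroup G) : Set G) :=
    fun m hm => Cfsg.Agent.Lib.Helper29.BG.mem_normalizer_inf_K (hMD hm) (hMMb hm)
  have hsup : ⁅M, M⁆ ≤ (⁅M, M⁆ ⊓ piCoreOf (beta M) M) ⊔ H0 := by
    rw [← Subgroup.relIndex_eq_one]
    by_contra hne
    obtain ⟨q, hq, hqd⟩ := Nat.exists_prime_and_dvd hne
    have h1 : q ∣ (⁅M, M⁆ ⊓ piCoreOf (beta M) M).relIndex ⁅M, M⁆ :=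
      hqd.trans (Subgroup.relIndex_dvd_of_le_left _ le_sup_left)
    have h2 : q ∣ H0.relIndex ⁅M, M⁆ :=
      hqd.trans (Subgroup.relIndex_dvd_of_le_left _ le_sup_right)
    have hqβ : q ∈ beta M := by
      by_contra hqβ
      exact hH0.2.2 q hq ⟨hq, hqβ⟩ h2
    apply hHallM.2.2 q hq hqβ
    rw [Subgroup.inf_relIndex_left] at h1
    have : ((piCoreOf (beta M) M).subgroupOf M).Normal :=
      Subgroup.normal_subgroupOf_of_le_normalizer hMMb
    have h3 : ((piCoreOf (beta M) M).subgroupOf M).relIndex ((⁅M, M⁆ : Subgroup G).subgroupOf M) ∣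
        ((piCoreOf (beta M) M).subgroupOf M).index := Subgroup.relIndex_dvd_index_of_normal _ _
    rw [Subgroup.relIndex_subgroupOf hDM] at h3
    exact h1.trans h3
  have ht' : ¬ t ∣ H0.relIndex ⁅M, M⁆ := hH0.2.2 t ht ⟨ht, htβ⟩
  obtain ⟨-, h2⟩ := Cfsg.Agent.Lib.Helper29.BG.lemK_pure hDM inf_le_left hMB hH0.1 hnil hsup ht'
    hMD hY
  apply le_antisymm
  · intro m hm
    obtain ⟨b, hb, s, hs, h⟩ := h2 m hm
    have hbM : b ∈ M := hDM hb.1
    have hsM : s ∈ M := hDM (hY.1 hs)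
    have hn : s * ((b * s)⁻¹ * m) ∈ M ⊓ normalizer (Y : Set G) :=
      ⟨M.mul_mem hsM (M.mul_mem (M.inv_mem (M.mul_mem hbM hsM)) hm),
        Subgroup.mul_mem _ (Subgroup.le_normalizer hs) h⟩
    have hmeq : m = b * (s * ((b * s)⁻¹ * m)) := by group
    rw [hmeq]
    exact Subgroup.mul_mem_sup hb.2 hn
  · exact sup_le (Cfsg.Agent.Lib.Helper27.BG.piCoreOf_le (beta M) M) inf_le_left

end Cfsg.Agent.Lib.Helper46.BG
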